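import Groth.Agent.Lib.TowerSmooth5.Basic
import Groth.Agent.Lib.OmegaRank13.Basic
import Mathlib

/-!
# Independent point derivations from generic separability
-/

set_option autoImplicit false
set_option linter.style.haveILetI false

universe u

open TensorProduct KaehlerDifferential

namespace Groth.Agent.TanRank4

theorem essFiniteType_of_fractions (k A L : Type u) [Field k] [CommRing A] [Field L] [Algebra k A]
    [Algebra k L] [Algebra A L] [IsScalarTower k A L] [Algebra.FiniteType k A]
    (hfrac : ∀ z : L, ∃ a b : A, z = algebraMap A L a / algebraMap A L b) : Algebra.EssFiniteType k L := by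
  let Q := RingHom.ker (algebraMap A L)
  let j : (A ⧸ Q) →+* L := Ideal.Quotient.lift Q (algebraMap A L) fun a ha => ha
  letI : Algebra (A ⧸ Q) L := j.toAlgebra
  haveI : IsScalarTower k (A ⧸ Q) L := IsScalarTower.of_algebraMap_eq fun c => by
    change _ = j (Ideal.Quotient.mk Q (algebraMap k A c))
    exact IsScalarTower.algebraMap_apply k A L c
  haveI : FaithfulSMul (A ⧸ Q) L := (faithfulSMul_iff_algebraMap_injective _ _).2 (RingHom.lift_injective_of_ker_le_ideal Q (fun a ha => ha) le_rfl)
  haveI : IsFractionRing (A ⧸ Q) L := IsFractionRing.of_field _ _ fun z => by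
    obtain ⟨a, b, h⟩ := hfrac z
    exact ⟨Ideal.Quotient.mk Q a, Ideal.Quotient.mk Q b, h⟩
  haveI : Algebra.EssFiniteType (A ⧸ Q) L := Algebra.EssFiniteType.of_isLocalization L (nonZeroDivisors (A ⧸ Q))
  exact Algebra.EssFiniteType.comp k (A ⧸ Q) L

/-- Point derivations at general points separate `finrank Ω[K⁄k]` functions from the base. -/
theorem exists_derivations (k B A K L : Type u) [Field k] [CharZero k] [CommRing B] [CommRing A] [Field K] [Field L]
    [Algebra k B] [Algebra k A] [Algebra k K] [Algebra k L] [Algebra B K] [Algebra A L] [Algebra K L] [Algebra B A]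
    [IsScalarTower k B K] [IsScalarTower k A L] [IsScalarTower k K L]
    [Algebra.FiniteType k B] [Algebra.FiniteType k A]
    (hK : ∀ z : K, ∃ a b : B, z = algebraMap B K a / algebraMap B K b)
    (hL : ∀ z : L, ∃ a b : A, z = algebraMap A L a / algebraMap A L b)
    (hcomm : ∀ b : B, algebraMap A L (algebraMap B A b) = algebraMap K L (algebraMap B K b)) :
    ∃ (d : ℕ) (c : A) (b : Fin d → B), Algebra.trdeg k K ≤ (d : Cardinal) ∧ algebraMap A L c ≠ 0 ∧
      ∀ χ : A →ₐ[k] k, RingHom.ker (algebraMap A L) ≤ RingHom.ker χ →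
        ∀ j : Fin d, ∃ δ : A →ₗ[k] k, δ 1 = 0 ∧ (∀ x y, δ (x * y) = χ x * δ y + χ y * δ x) ∧
          ∀ i, δ (algebraMap B A (b i)) = if i = j then χ c else 0 := by
  classical
  haveI : Algebra.EssFiniteType k K := essFiniteType_of_fractions k B K hK
  haveI : Algebra.EssFiniteType k L := essFiniteType_of_fractions k A L hL
  haveI : CharZero K := charZero_of_injective_algebraMap (algebraMap k K).injective
  haveI : Algebra.EssFiniteType K L := Algebra.EssFiniteType.of_comp k K L
  haveI : Algebra.FormallySmooth k L := Algebra.FormallySmooth.of_perfectField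
  haveI : Algebra.FormallySmooth K L := Algebra.FormallySmooth.of_perfectField
  obtain ⟨r, hr⟩ := (TowerSmooth5.formallySmooth_iff k K L).1 inferInstance
  have hspan : Submodule.span K (Set.range fun b : B => D k K (algebraMap B K b)) = ⊤ := by
    rw [eq_top_iff, ← KaehlerDifferential.span_range_derivation, Submodule.span_le]
    rintro _ ⟨z, rfl⟩
    obtain ⟨a, b, rfl⟩ := hK z
    rw [div_eq_mul_inv, Derivation.leibniz, Derivation.leibniz_inv]
    exact Submodule.add_mem _ (Submodule.smul_mem _ _ (Submodule.smul_mem _ _ (Submodule.subset_span ⟨b, rfl⟩)))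
      (Submodule.smul_mem _ _ (Submodule.subset_span ⟨a, rfl⟩))
  obtain ⟨T, hTsub, hTspan, hTli⟩ := exists_linearIndependent K (Set.range fun b : B => D k K (algebraMap B K b))
  haveI := hTli.finite
  haveI : Fintype T := Fintype.ofFinite T
  let bT : Module.Basis T K Ω[K⁄k] := Module.Basis.mk hTli (by rw [Subtype.range_coe, hTspan, hspan])
  let d := Fintype.card T
  let e := Fintype.equivFin T
  let bK := bT.reindex e
  choose bb hbb using fun i : Fin d => hTsub (e.symm i).2
  have hbK : ∀ i, bK i = D k K (algebraMap B K (bb i)) := fun i => by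
    rw [Module.Basis.reindex_apply, Module.Basis.mk_apply]
    exact (hbb i).symm
  let φ : Fin d → Ω[L⁄k] →ₗ[L] L := fun j => ((bK.baseChange L).coord j).comp r
  have hφ : ∀ i j, φ j (D k L (algebraMap A L (algebraMap B A (bb i)))) = if i = j then 1 else 0 := by
    intro i j
    have h1 : mapBaseChange k K L ((bK.baseChange L) i) = D k L (algebraMap A L (algebraMap B A (bb i))) := by
      rw [Module.Basis.baseChange_apply, mapBaseChange_tmul, one_smul, hbK, map_D, hcomm]
    rw [← h1]
    simp only [φ, LinearMap.comp_apply, Module.Basis.coord_apply]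
    have h2 : r (mapBaseChange k K L ((bK.baseChange L) i)) = (bK.baseChange L) i := LinearMap.congr_fun hr _
    rw [h2, Module.Basis.repr_self, Finsupp.single_apply]
  obtain ⟨s, hs⟩ := (Algebra.FiniteType.out : (⊤ : Subalgebra k A).FG)
  choose nu de hde using fun (j : Fin d) (x : A) => hL (φ j (D k L (algebraMap A L x)))
  let de' : Fin d → A → A := fun j x => if algebraMap A L (de j x) = 0 then 1 else de j x
  let c : A := ∏ p ∈ Finset.univ ×ˢ s, de' p.1 p.2
  have hc0 : algebraMap A L c ≠ 0 := by
    rw [map_prod]
    refine Finset.prod_ne_zero_iff.2 fun p _ => ?_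
    simp only [de']
    split_ifs with h
    · rw [map_one]; exact one_ne_zero
    · exact h
  let R : Subalgebra k L := (IsScalarTower.toAlgHom k A L).range
  have hR : ∀ a, algebraMap A L a ∈ R := fun a => ⟨a, rfl⟩
  have hmem : ∀ (j : Fin d) (x : A), algebraMap A L c * φ j (D k L (algebraMap A L x)) ∈ R := by
    intro j x
    have hx : x ∈ Algebra.adjoin k (s : Set A) := hs ▸ Algebra.mem_top
    induction hx using Algebra.adjoin_induction with
    | mem y hy =>
      obtain ⟨w, hw⟩ := Finset.dvd_prod_of_mem (fun p : Fin d × A => de' p.1 p.2)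
        (show (j, y) ∈ Finset.univ ×ˢ s from Finset.mem_product.2 ⟨Finset.mem_univ _, hy⟩)
      simp only [] at hw
      by_cases h : algebraMap A L (de j y) = 0
      · rw [hde, h, div_zero, mul_zero]; exact R.zero_mem
      · rw [show c = de' j y * w from hw, show de' j y = de j y from if_neg h, map_mul, hde,
          mul_comm (algebraMap A L (de j y)), mul_assoc, mul_div_cancel₀ _ h, ← map_mul]
        exact hR _
    | algebraMap q => rw [← IsScalarTower.algebraMap_apply, Derivation.map_algebraMap, map_zero, mul_zero]; exact R.zero_mem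
    | add x y _ _ hx hy => rw [map_add, map_add, map_add, mul_add]; exact R.add_mem hx hy
    | mul x y _ _ hx hy =>
      rw [map_mul, Derivation.leibniz, map_add, map_smul, map_smul, smul_eq_mul, smul_eq_mul, mul_add,
        mul_left_comm, mul_left_comm (algebraMap A L c)]
      exact R.add_mem (R.mul_mem (hR _) hy) (R.mul_mem (hR _) hx)
  have hcard : Algebra.trdeg k K ≤ (d : Cardinal) := by
    have h := OmegaRank13.trdeg_le_finrank (k := k) K
    rwa [Module.finrank_eq_card_basis bT] at h
  refine ⟨d, c, bb, hcard, hc0, fun χ hχ j => ?_⟩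
  let π : A →ₐ[k] R := (IsScalarTower.toAlgHom k A L).rangeRestrict
  have hπ : Function.Surjective π := AlgHom.rangeRestrict_surjective _
  have hχR : ∀ a a', π a = π a' → χ a = χ a' := fun a a' h => by
    have h1 : a - a' ∈ RingHom.ker (algebraMap A L) := by
      rw [RingHom.mem_ker, map_sub, sub_eq_zero]
      exact congrArg Subtype.val h
    have h2 : χ (a - a') = 0 := hχ h1
    rwa [map_sub, sub_eq_zero] at h2
  choose g hg using fun x => hπ ⟨_, hmem j x⟩
  have hg' : ∀ x, algebraMap A L (g x) = algebraMap A L c * φ j (D k L (algebraMap A L x)) :=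
    fun x => congrArg Subtype.val (hg x)
  have key : ∀ a a', algebraMap A L a = algebraMap A L a' → χ a = χ a' := fun a a' h => hχR a a' (Subtype.ext h)
  let δ : A →ₗ[k] k :=
    { toFun := fun x => χ (g x)
      map_add' := fun x y => by
        rw [← map_add χ]
        refine key _ _ ?_
        rw [map_add, hg', hg', hg', map_add, map_add, map_add, mul_add]
      map_smul' := fun q x => by
        rw [RingHom.id_apply, ← map_smul χ]
        refine key _ _ ?_
        rw [hg', ← IsScalarTower.coe_toAlgHom' k A L, map_smul (IsScalarTower.toAlgHom k A L) q x,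
          map_smul (IsScalarTower.toAlgHom k A L) q (g x), Derivation.map_smul, LinearMap.map_smul_of_tower,
          IsScalarTower.coe_toAlgHom', hg', mul_smul_comm] }
  refine ⟨δ, ?_, fun x y => ?_, fun i => ?_⟩
  · show χ (g 1) = 0
    rw [← map_zero χ]
    refine key _ _ ?_
    rw [hg', map_one, Derivation.map_one_eq_zero, map_zero, mul_zero, map_zero]
  · show χ (g (x * y)) = χ x * χ (g y) + χ y * χ (g x)
    rw [← map_mul, ← map_mul, ← map_add]
    refine key _ _ ?_
    rw [map_add, map_mul, map_mul, hg', hg', hg', map_mul, Derivation.leibniz, map_add, map_smul, map_smul,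
      smul_eq_mul, smul_eq_mul]
    ring
  · show χ (g _) = _
    split_ifs with h
    · refine key _ _ ?_
      rw [hg', hφ, if_pos h, mul_one]
    · rw [← map_zero χ]
      refine key _ _ ?_
      rw [hg', hφ, if_neg h, mul_zero, map_zero]

/-- Leibniz functionals vanish on the square of the kernel. -/
theorem eq_zero_of_mem_sq {k A : Type u} [Field k] [CommRing A] [Algebra k A] (χ : A →ₐ[k] k) (δ : A →ₗ[k] k)
    (hδ : ∀ x y, δ (x * y) = χ x * δ y + χ y * δ x) {w : A} (hw : w ∈ RingHom.ker χ ^ 2) : δ w = 0 := by
  rw [pow_two] at hw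
  refine Submodule.mul_induction_on hw (fun a ha b hb => ?_) fun a b ha hb => by rw [map_add, ha, hb, add_zero]
  rw [hδ, show χ a = 0 from ha, show χ b = 0 from hb, zero_mul, zero_mul, add_zero]

end Groth.Agent.TanRank4
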